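import Mathlib
import Cfsg.Agent.H150.FarOrthEven
import Cfsg.Agent.H977.CS.OrthInd

/-!
# S3442, row X12: the hyperbolic plane fixed by an isometry of primitive prime order (helper559)
-/

set_option autoImplicit false

namespace Cfsg.Agent.H559.CV

open Module Cfsg QuadraticMap
open Cfsg.Agent.LieClassical.OrthCount Cfsg.Agent.LieClassical.OmegaReindex
open Cfsg.Agent.LieClassical.OrthCenter
open Cfsg.Agent.H377 Cfsg.Agent.H150

variable {F : Type*} [Field F] {ι : Type} [Fintype ι] [DecidableEq ι] {Q : QuadraticForm F (ι → F)}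

/-- the linear map of an isometry -/
noncomputable def lin (g : isometryGroup F (⇑Q)) : (ι → F) →ₗ[F] (ι → F) :=
  ((isometryGroupEquiv Q g : OG Q) : (ι → F) ≃ₗ[F] (ι → F))

theorem lin_apply (g : isometryGroup F (⇑Q)) (v : ι → F) : lin g v = act Q g v := rfl

theorem lin_one : lin (1 : isometryGroup F (⇑Q)) = 1 :=
  LinearMap.ext fun v => by rw [lin_apply, act_one, Module.End.one_apply]

theorem lin_mul (g h : isometryGroup F (⇑Q)) : lin (g * h) = lin g * lin h :=
  LinearMap.ext fun v => by rw [lin_apply, act_mul]; rfl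

theorem lin_pow (g : isometryGroup F (⇑Q)) (j : ℕ) : lin (g ^ j) = lin g ^ j := by
  induction j with
  | zero => rw [pow_zero, pow_zero, lin_one]
  | succ j ih => rw [pow_succ, pow_succ, lin_mul, ih]

theorem lin_inj {g h : isometryGroup F (⇑Q)} (H : lin g = lin h) : g = h :=
  act_ext fun x => LinearMap.congr_fun H x

/-- the hyperbolic plane of the fixed vectors of `x`, `x` irreducible on its complement -/
structure Frame (Q : QuadraticForm F (ι → F)) (x : (ι → F) →ₗ[F] (ι → F)) (u v : ι → F) : Prop where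
  hu : Q u = 0
  hv : Q v = 0
  huv : polar Q u v = 1
  xu : x u = u
  xv : x v = v
  fix : ∀ c, x c = c → c = polar Q v c • u + polar Q u c • v
  rng : ∀ w, polar Q u w = 0 → polar Q v w = 0 → w ∈ LinearMap.range (x - 1)
  irr : ∀ W : Submodule F (ι → F), W ≤ LinearMap.range (x - 1) → (∀ w ∈ W, x w ∈ W) → W = ⊥ ∨ W = LinearMap.range (x - 1)
  dim : finrank F (LinearMap.range (x - 1)) + 2 = Fintype.card ι

theorem exists_frame [Finite F] (hQ : (polarBilin Q).Nondegenerate) {n : ℕ} (hn : 3 ≤ n)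
    (hdim : finrank F (ι → F) = 2 * n) (hs : HasSign (⇑Q) n (-1)) {r : ℕ} (hr : r.Prime) (hr2 : r ≠ 2)
    (hrF : (r : F) ≠ 0) (hk : orderOf ((Nat.card F : ℕ) : ZMod r) = 2 * (n - 1)) (hm : r ∣ Nat.card F ^ (n - 1) + 1)
    (X : isometryGroup F (⇑Q)) (hX : X ^ r = 1) (hX1 : X ≠ 1) : ∃ u v, Frame Q (lin X) u v := by
  classical
  obtain ⟨x, hxdef⟩ : ∃ x, x = lin X := ⟨_, rfl⟩
  rw [← hxdef]
  have hx : x ^ r = 1 := by rw [hxdef, ← lin_pow, hX, lin_one]
  have hx1 : x ≠ 1 := by
    intro h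
    rw [hxdef, ← lin_one (Q := Q)] at h
    exact hX1 (lin_inj h)
  have hxQ : ∀ v, Q (x v) = Q v := fun v => by rw [hxdef]; exact map_act X v
  have hB : ∀ v w, polarBilin Q (x v) (x w) = polarBilin Q v w := fun v w => polar_isom Q x hxQ v w
  have hnd : ND Q := fun u hu => hQ.1 u hu
  have hcompl := isCompl_fix hrF x hx
  have hsum := Submodule.finrank_add_eq_of_isCompl hcompl
  have hxM := (range_inv (x := x) (y := x) (fun v => rfl)).1
  have hkd := dvd_finrank_of_fpf_submodule hr x hx _ hxM (fpf_range hrF x hx)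
  rw [hk] at hkd
  have hM := finrank_range_le_of_dvd hx1 hkd hdim (by omega)
  have hCnd : ND (Q.comp (LinearMap.ker (x - 1)).subtype) := by
    intro u hu
    exact nondeg_ker hrF (polarBilin Q) (fun u hu => hnd u hu) x hx hB u (fun v => hu v)
  have hMnd : ND (Q.comp (LinearMap.range (x - 1)).subtype) := by
    intro u hu
    exact nondeg_range hrF (polarBilin Q) (fun u hu => hnd u hu) x hx hB u (fun v => hu v)
  have hCmem : ∀ v, v ∈ LinearMap.ker (x - 1) ↔ x v = v := fun v => by
    rw [LinearMap.mem_ker, LinearMap.sub_apply, Module.End.one_apply, sub_eq_zero]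
  have horth : ∀ c ∈ LinearMap.ker (x - 1), ∀ m ∈ LinearMap.range (x - 1), polar Q c m = 0 := by
    intro c hc m hm
    refine ortho_fix (polarBilin Q) x hB ?_ hm
    rwa [hCmem] at hc
  have hC : finrank F (LinearMap.ker (x - 1)) = 2 * 1 := by omega
  -- the fixed plane is hyperbolic
  have hplus : ∃ e : (Fin 1 ⊕ Fin 1 → F) ≃ₗ[F] LinearMap.ker (x - 1),
      ∀ u, (Q.comp (LinearMap.ker (x - 1)).subtype) (e u) = quadFormPlus 1 F u := by
    rcases classify_all le_rfl hC (Q.comp (LinearMap.ker (x - 1)).subtype) hCnd with h | ⟨ζ, hζ, e, he⟩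
    · exact h
    exfalso
    have hδs : HasSign (⇑(Q.comp (LinearMap.ker (x - 1)).subtype)) 1 (-1) := by
      have h := (hasSign_quadFormMinus (1 - 1) hζ).congr e.toEquiv
        (Q' := ⇑(Q.comp (LinearMap.ker (x - 1)).subtype)) fun v => he v
      exact h
    have hNV := card_of_hasSign' hdim hs (one_ne_zero (α := F))
    have hNC := card_of_hasSign' hC hδs (one_ne_zero (α := F))
    rw [card_sub_eq] at hNC
    have hrdvd : (r : ℤ) ∣ (Nat.card {v : ι → F // Q v = 1} : ℤ) -
        (Nat.card {v : ι → F // Q v = 1 ∧ v ∈ LinearMap.ker (x - 1)} : ℤ) := by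
      have h1 := prime_dvd_moved Q hr (isometryGroupEquiv Q X) (by rw [← map_pow, hX, map_one])
      have h3 : Nat.card {v : ι → F // Q v = 1 ∧
          ((isometryGroupEquiv Q X : OG Q) : (ι → F) ≃ₗ[F] (ι → F)) v = v} =
          Nat.card {v : ι → F // Q v = 1 ∧ v ∈ LinearMap.ker (x - 1)} :=
        Nat.card_congr (Equiv.subtypeEquivRight fun v => and_congr_right fun _ => by
          rw [hCmem, hxdef]; exact Iff.rfl)
      rw [h3] at h1
      exact (Nat.modEq_iff_dvd.1 h1.symm)
    obtain ⟨NV, hNVd⟩ : ∃ NV : ℤ, NV = (Nat.card {v : ι → F // Q v = 1} : ℤ) := ⟨_, rfl⟩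
    obtain ⟨NC, hNCd⟩ : ∃ NC : ℤ, NC = (Nat.card {v : ι → F // Q v = 1 ∧ v ∈ LinearMap.ker (x - 1)} : ℤ) := ⟨_, rfl⟩
    rw [← hNVd, ← hNCd] at hrdvd
    rw [← hNVd] at hNV
    rw [← hNCd] at hNC
    obtain ⟨q, hq⟩ : ∃ q : ℤ, q = (Nat.card F : ℤ) := ⟨_, rfl⟩
    rw [← hq] at hNV hNC
    have hq0 : q ≠ 0 := by
      rw [hq]
      exact_mod_cast Nat.card_pos.ne'
    obtain ⟨k, hk'⟩ : ∃ k, n = k + 1 := ⟨n - 1, by omega⟩
    have hm' : (r : ℤ) ∣ q ^ k + 1 := by
      have h1 : ((r : ℕ) : ℤ) ∣ ((Nat.card F ^ (n - 1) + 1 : ℕ) : ℤ) := Int.natCast_dvd_natCast.2 hm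
      have h2 : n - 1 = k := by omega
      rw [h2] at h1
      push_cast at h1
      rwa [← hq] at h1
    rw [hk'] at hNV
    have e1 : NV = q ^ k * (q ^ (k + 1) + 1) := by
      apply mul_left_cancel₀ hq0
      rw [hNV]; ring
    have e2 : NC = q + 1 := by
      apply mul_left_cancel₀ hq0
      rw [hNC]; ring
    rw [e1, e2] at hrdvd
    have h3 : (r : ℤ) ∣ 2 := by
      have h4 : q ^ k * (q ^ (k + 1) + 1) - (q + 1) = (q ^ k + 1) * (q * q ^ k - q + 1) - 2 := by ring
      rw [h4] at hrdvd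
      have h5 := Dvd.dvd.mul_right hm' (q * q ^ k - q + 1)
      exact (dvd_sub_right h5).1 hrdvd
    have h6 : r ∣ 2 := by exact_mod_cast h3
    exact hr2 ((Nat.prime_dvd_prime_iff_eq hr Nat.prime_two).1 h6)
  obtain ⟨e, he⟩ := hplus
  -- the basis
  obtain ⟨u, hu⟩ : ∃ u, u = e (Pi.single (.inl 0) 1) := ⟨_, rfl⟩
  obtain ⟨v, hv⟩ : ∃ v, v = e (Pi.single (.inr 0) 1) := ⟨_, rfl⟩
  have hee : ∀ a b : F, e (Sum.elim (fun _ => a) (fun _ => b)) = a • u + b • v := by
    intro a b
    rw [hu, hv, ← map_smul, ← map_smul, ← map_add]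
    congr 1
    funext i
    rcases i with i | i <;> obtain rfl : i = 0 := Subsingleton.elim _ _ <;> simp
  have hQe : ∀ a b : F, Q (a • (u : ι → F) + b • (v : ι → F)) = a * b := by
    intro a b
    have h1 := he (Sum.elim (fun _ => a) (fun _ => b))
    rw [hee] at h1
    change Q (a • (u : ι → F) + b • (v : ι → F)) = _ at h1
    rw [h1]
    simp [quadFormPlus]
  have hQu : Q (u : ι → F) = 0 := by
    have := hQe 1 0
    simpa using this
  have hQv : Q (v : ι → F) = 0 := by
    have := hQe 0 1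
    simpa using this
  have huv : polar Q (u : ι → F) v = 1 := by
    have := hQe 1 1
    rw [polar, hQu, hQv, sub_zero, sub_zero]
    simpa using this
  have hsp : ∀ c, x c = c → ∃ a b : F, c = a • (u : ι → F) + b • (v : ι → F) := by
    intro c hc
    obtain ⟨f, hf⟩ := e.surjective ⟨c, (hCmem c).2 hc⟩
    refine ⟨f (.inl 0), f (.inr 0), ?_⟩
    have h1 : f = Sum.elim (fun _ => f (.inl 0)) (fun _ => f (.inr 0)) := by
      funext i
      rcases i with i | i <;> obtain rfl : i = 0 := Subsingleton.elim _ _ <;> rfl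
    rw [h1, hee] at hf
    exact (congrArg Subtype.val hf).symm
  have huu : polar Q (u : ι → F) u = 0 := by rw [Cfsg.Agent.ClassicalGeometry.Reflection.polar_self', hQu, mul_zero]
  have hvv : polar Q (v : ι → F) v = 0 := by rw [Cfsg.Agent.ClassicalGeometry.Reflection.polar_self', hQv, mul_zero]
  have hvu : polar Q (v : ι → F) u = 1 := by rw [polar_comm]; exact huv
  refine ⟨u, v, hQu, hQv, huv, (hCmem _).1 u.2, (hCmem _).1 v.2, ?_, ?_, ?_, ?_⟩
  · intro c hc
    obtain ⟨a, b, rfl⟩ := hsp c hc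
    have h1 : polar Q (v : ι → F) (a • (u : ι → F) + b • (v : ι → F)) = a := by
      rw [polar_add_right, polar_smul_right, polar_smul_right, hvu, hvv]; simp
    have h2 : polar Q (u : ι → F) (a • (u : ι → F) + b • (v : ι → F)) = b := by
      rw [polar_add_right, polar_smul_right, polar_smul_right, huv, huu]; simp
    rw [h1, h2]
  · intro w h1 h2
    obtain ⟨c, hc, m, hm, rfl⟩ := Submodule.mem_sup.1
      (show w ∈ LinearMap.ker (x - 1) ⊔ LinearMap.range (x - 1) by rw [hcompl.sup_eq_top]; trivial)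
    obtain ⟨a, b, hab⟩ := hsp c ((hCmem c).1 hc)
    rw [polar_add_right, horth _ u.2 m hm, add_zero, hab, polar_add_right, polar_smul_right, polar_smul_right, huv,
      huu] at h1
    rw [polar_add_right, horth _ v.2 m hm, add_zero, hab, polar_add_right, polar_smul_right, polar_smul_right, hvu,
      hvv] at h2
    simp at h1 h2
    rw [hab, h1, h2, zero_smul, zero_smul, add_zero, zero_add]
    exact hm
  · intro W hW hWx
    have hf : ∀ w ∈ W, x w = w → w = 0 := fun w hw h => fpf_range hrF x hx w (hW hw) h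
    have h1 := dvd_finrank_of_fpf_submodule hr x hx W hWx hf
    rw [hk] at h1
    rcases Nat.eq_zero_or_pos (finrank F W) with h | h
    · left
      exact Submodule.finrank_eq_zero.1 h
    · right
      refine Submodule.eq_of_le_of_finrank_le hW ?_
      rw [hM]
      exact Nat.le_of_dvd h h1
  · have : finrank F (ι → F) = Fintype.card ι := finrank_fintype_fun_eq_card F
    omega

end Cfsg.Agent.H559.CV
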