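import Mathlib
import Cfsg.Agent.H559.CV.Frame

/-!
# S3442, row X12: elements of `Omega` commuting with an isometry of primitive prime order (helper559)
-/

set_option autoImplicit false
set_option linter.unusedSectionVars false

namespace Cfsg.Agent.H559.CV

open Module Cfsg QuadraticMap
open Cfsg.Agent.LieClassical.OrthCount Cfsg.Agent.LieClassical.OmegaReindex
open Cfsg.Agent.LieClassical.OrthCenter
open Cfsg.Agent.H377 Cfsg.Agent.H150


variable {F : Type*} [Field F] {ι : Type} [Fintype ι] [DecidableEq ι] {Q : QuadraticForm F (ι → F)}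

theorem act_comm {X Y : isometryGroup F (⇑Q)} (h : Commute X Y) (w : ι → F) : act Q X (act Q Y w) = act Q Y (act Q X w) := by
  rw [← act_mul, h.eq, act_mul]

section
variable {X Y : isometryGroup F (⇑Q)} {u v : ι → F} (H : Frame Q (lin X) u v)
include H

theorem Frame.u_ne : u ≠ 0 := by
  rintro rfl
  have := H.huv
  rw [polar_zero_left] at this
  exact zero_ne_one this

theorem Frame.v_ne : v ≠ 0 := by
  rintro rfl
  have := H.huv
  rw [polar_zero_right] at this
  exact zero_ne_one this

theorem Frame.huu : polar Q u u = 0 := by rw [ClassicalGeometry.Reflection.polar_self', H.hu, mul_zero]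

theorem Frame.hvv : polar Q v v = 0 := by rw [ClassicalGeometry.Reflection.polar_self', H.hv, mul_zero]

theorem Frame.hvu : polar Q v u = 1 := by rw [polar_comm]; exact H.huv

/-- the range is orthogonal to the plane -/
theorem Frame.perp_of_mem {w : ι → F} (hw : w ∈ LinearMap.range (lin X - 1)) : polar Q u w = 0 ∧ polar Q v w = 0 := by
  have hB : ∀ a b, polarBilin Q (lin X a) (lin X b) = polarBilin Q a b := fun a b => polar_act X a b
  exact ⟨ortho_fix (polarBilin Q) (lin X) hB H.xu hw, ortho_fix (polarBilin Q) (lin X) hB H.xv hw⟩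

/-- decomposition -/
theorem Frame.dec (z : ι → F) : ∃ a b : F, ∃ w ∈ LinearMap.range (lin X - 1), z = a • u + b • v + w := by
  refine ⟨polar Q v z, polar Q u z, z - polar Q v z • u - polar Q u z • v, ?_, by abel⟩
  apply H.rng
  · rw [polar_sub_right, polar_sub_right, polar_smul_right, polar_smul_right, H.huu, H.huv]; simp
  · rw [polar_sub_right, polar_sub_right, polar_smul_right, polar_smul_right, H.hvv, H.hvu]; simp

/-- no vector of the plane in the range -/
theorem Frame.coef {w w' : ι → F} (hw : w ∈ LinearMap.range (lin X - 1)) (hw' : w' ∈ LinearMap.range (lin X - 1))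
    {c : F} (h : w = w' + c • u) : c = 0 ∧ w = w' := by
  have h1 := (H.perp_of_mem hw).2
  rw [h, polar_add_right, (H.perp_of_mem hw').2, polar_smul_right, H.hvu, zero_add, smul_eq_mul, mul_one] at h1
  refine ⟨h1, ?_⟩
  rw [h, h1, zero_smul, add_zero]

theorem Frame.fix_comm (hXY : Commute X Y) {c : ι → F} (hc : act Q X c = c) : act Q X (act Q Y c) = act Q Y c := by
  rw [act_comm hXY, hc]

theorem Frame.rng_comm (hXY : Commute X Y) {w : ι → F} (hw : w ∈ LinearMap.range (lin X - 1)) :
    act Q Y w ∈ LinearMap.range (lin X - 1) := by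
  obtain ⟨z, rfl⟩ := hw
  refine ⟨act Q Y z, ?_⟩
  rw [LinearMap.sub_apply, LinearMap.sub_apply, Module.End.one_apply, Module.End.one_apply, lin_apply, lin_apply,
    act_sub, act_comm hXY]

/-- **Lemma A** -/
theorem Frame.eigen (hQ : (polarBilin Q).Nondegenerate) (hn : 5 ≤ Fintype.card ι) (hev : Even (Fintype.card ι))
    (hXY : Commute X Y) (hY : Y ∈ Omega F (⇑Q)) :
    ∃ ζ : F, ζ ≠ 0 ∧ act Q Y u = ζ • u ∧ act Q Y v = ζ⁻¹ • v := by
  obtain ⟨a, b, hYu⟩ : ∃ a b : F, act Q Y u = a • u + b • v := ⟨_, _, H.fix _ (H.fix_comm hXY H.xu)⟩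
  obtain ⟨c, d, hYv⟩ : ∃ c d : F, act Q Y v = c • u + d • v := ⟨_, _, H.fix _ (H.fix_comm hXY H.xv)⟩
  have h1 : a * b = 0 := by
    have h := map_act Y u
    rw [hYu, ClassicalGeometry.Reflection.map_add', QuadraticMap.map_smul, QuadraticMap.map_smul, polar_smul_left, polar_smul_right,
      H.hu, H.hv, H.huv] at h
    simpa using h
  have h2 : c * d = 0 := by
    have h := map_act Y v
    rw [hYv, ClassicalGeometry.Reflection.map_add', QuadraticMap.map_smul, QuadraticMap.map_smul, polar_smul_left, polar_smul_right,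
      H.hu, H.hv, H.huv] at h
    simpa using h
  have h3 : a * d + b * c = 1 := by
    have h := polar_act Y u v
    rw [hYu, hYv, polar_add_left, polar_add_right, polar_add_right, polar_smul_left, polar_smul_left, polar_smul_left,
      polar_smul_left, polar_smul_right, polar_smul_right, polar_smul_right, polar_smul_right, H.huu, H.huv, H.hvu,
      H.hvv] at h
    simp only [smul_eq_mul, mul_zero, mul_one, zero_add, add_zero] at h
    exact h
  rcases mul_eq_zero.1 h1 with ha | hb
  · -- the swap
    exfalso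
    rw [ha, zero_mul, zero_add] at h3
    have hb0 : b ≠ 0 := left_ne_zero_of_mul_eq_one h3
    have hc0 : c ≠ 0 := right_ne_zero_of_mul_eq_one h3
    have hd : d = 0 := (mul_eq_zero.1 h2).resolve_left hc0
    rw [ha, zero_smul, zero_add] at hYu
    rw [hd, zero_smul, add_zero] at hYv
    have hbc : c * b = 1 := by rw [mul_comm]; exact h3
    -- the fixed space of `Y`
    have hev' := even_finrank_fix Q hQ hn hev (isometryGroupEquiv Q Y) (lin Y) (fun _ => rfl)
      ((mem_commutator_congr (isometryGroupEquiv Q) Y).2 hY)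
    have hKmem : ∀ z, z ∈ LinearMap.ker (lin Y - 1) ↔ act Q Y z = z := fun z => by
      rw [LinearMap.mem_ker, LinearMap.sub_apply, Module.End.one_apply, sub_eq_zero, lin_apply]
    have hc1 : act Q Y (u + b • v) = u + b • v := by
      rw [act_add, act_smul, hYu, hYv, smul_smul, mul_comm b c, hbc, one_smul, add_comm]
    have hc1K : u + b • v ∈ LinearMap.ker (lin Y - 1) := (hKmem _).2 hc1
    have hc1M : u + b • v ∉ LinearMap.range (lin X - 1) := by
      intro h
      have := (H.perp_of_mem h).2
      rw [polar_add_right, polar_smul_right, H.hvu, H.hvv] at this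
      simp at this
    have huK : u ∉ LinearMap.ker (lin Y - 1) := by
      intro h
      rw [hKmem, hYu] at h
      have h5 : polar Q u u = 0 := H.huu
      rw [← h] at h5
      nth_rewrite 1 [h] at h5
      rw [polar_smul_right, H.huv, smul_eq_mul, mul_one] at h5
      exact hb0 h5
    have hfr : finrank F (ι → F) = Fintype.card ι := finrank_fintype_fun_eq_card F
    have hdim := H.dim
    rcases H.irr (LinearMap.ker (lin Y - 1) ⊓ LinearMap.range (lin X - 1)) inf_le_right (by
      rintro w ⟨hw1, hw2⟩
      refine ⟨?_, ?_⟩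
      · rw [SetLike.mem_coe, hKmem] at hw1 ⊢
        rw [lin_apply, ← act_comm hXY, hw1]
      · exact H.rng_comm (Commute.refl X) hw2) with h | h
    · -- `K ≤ C`
      have hle : LinearMap.ker (lin Y - 1) ≤ Submodule.span F {u + b • v} := by
        intro z hz
        obtain ⟨s, t, w, hw, rfl⟩ := H.dec z
        have h5 := (hKmem _).1 hz
        rw [act_add, act_add, act_smul, act_smul, hYu, hYv] at h5
        have hw' := H.rng_comm hXY hw
        have h6 := congrArg (polar Q v) h5
        have h7 := congrArg (polar Q u) h5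
        rw [polar_add_right, polar_add_right, polar_add_right, polar_add_right, (H.perp_of_mem hw).2,
          (H.perp_of_mem hw').2] at h6
        rw [polar_add_right, polar_add_right, polar_add_right, polar_add_right, (H.perp_of_mem hw).1,
          (H.perp_of_mem hw').1] at h7
        simp only [polar_smul_right, H.hvu, H.hvv, H.huu, H.huv, smul_eq_mul, mul_zero, mul_one, add_zero, zero_add] at h6 h7
        -- `h6 : t * c = s`, `h7 : s * b = t`
        have hwK : w ∈ LinearMap.ker (lin Y - 1) ⊓ LinearMap.range (lin X - 1) := by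
          refine ⟨?_, hw⟩
          rw [SetLike.mem_coe, hKmem]
          have h8 : s • b • v + t • c • u = s • u + t • v := by
            rw [smul_smul, smul_smul, h6, h7, add_comm]
          rw [h8] at h5
          exact add_left_cancel h5
        rw [h, Submodule.mem_bot] at hwK
        rw [hwK, add_zero, Submodule.mem_span_singleton]
        refine ⟨s, ?_⟩
        rw [smul_add, smul_smul, h7]
      have h5 := Submodule.finrank_mono hle
      rw [finrank_span_singleton (by
        intro h0
        exact hc1M (by rw [h0]; exact Submodule.zero_mem _))] at h5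
      have h6 : 0 < finrank F (LinearMap.ker (lin Y - 1)) := by
        rw [Module.finrank_pos_iff_exists_ne_zero]
        refine ⟨⟨_, hc1K⟩, fun h0 => hc1M ?_⟩
        rw [show u + b • v = 0 from congrArg Subtype.val h0]
        exact Submodule.zero_mem _
      obtain ⟨k, hk⟩ := hev'
      omega
    · have hle : LinearMap.range (lin X - 1) ≤ LinearMap.ker (lin Y - 1) := by
        rw [← h]; exact inf_le_left
      have h5 : finrank F (LinearMap.range (lin X - 1)) < finrank F (LinearMap.ker (lin Y - 1)) :=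
        Submodule.finrank_lt_finrank_of_lt (lt_of_le_of_ne hle fun h0 => hc1M (by rw [h0]; exact hc1K))
      have h6 : finrank F (LinearMap.ker (lin Y - 1)) < finrank F (ι → F) :=
        Submodule.finrank_lt (fun h0 => huK (by rw [h0]; trivial))
      obtain ⟨k, hk⟩ := hev'
      obtain ⟨l, hl⟩ := hev
      omega
  · rw [hb, zero_smul, add_zero] at hYu
    rw [hb, zero_mul, add_zero] at h3
    have ha0 : a ≠ 0 := left_ne_zero_of_mul_eq_one h3
    have hd0 : d ≠ 0 := right_ne_zero_of_mul_eq_one h3
    have hc : c = 0 := (mul_eq_zero.1 h2).resolve_right hd0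
    rw [hc, zero_smul, zero_add] at hYv
    refine ⟨a, ha0, hYu, ?_⟩
    rw [hYv, eq_inv_of_mul_eq_one_right h3]

/-- **Lemma B**: an element commuting with `X`, diagonal on the plane, commuting with a Siegel transformation is `±1` -/
theorem Frame.scalar (hQ : (polarBilin Q).Nondegenerate) (hn : 3 ≤ Fintype.card ι) (hXY : Commute X Y) {ζ : F}
    (hYu : act Q Y u = ζ • u) (hYv : act Q Y v = ζ⁻¹ • v) {w : ι → F} (hw : w ∈ LinearMap.range (lin X - 1))
    (hw0 : w ≠ 0) (h : Y * siegelIso Q u w H.hu (H.perp_of_mem hw).1 = siegelIso Q u w H.hu (H.perp_of_mem hw).1 * Y) :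
    (ζ = 1 ∨ ζ = -1) ∧ ∀ z, act Q Y z = ζ • z := by
  have h1 := congrArg (fun g => act Q g v) h
  simp only [act_mul, act_siegelIso] at h1
  have hwv : polar Q w v = 0 := by rw [polar_comm]; exact (H.perp_of_mem hw).2
  rw [H.huv, hwv, hYv, act_sub, act_sub, act_add, polar_smul_right, polar_smul_right, H.huv, hwv, one_smul, zero_smul, act_zero, sub_zero,
    act_smul, hYu, hYv, smul_zero, zero_smul, sub_zero, mul_one] at h1
  have h2 : act Q Y w = ζ⁻¹ • w + (Q w * ζ - Q w * (ζ⁻¹ • (1 : F))) • u := by
    have h3 : act Q Y w = (ζ⁻¹ • v + act Q Y w - Q w • ζ • u) - ζ⁻¹ • v + Q w • ζ • u := by abel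
    rw [h3, h1]
    module
  have hwM : ζ⁻¹ • w ∈ LinearMap.range (lin X - 1) := Submodule.smul_mem _ _ hw
  obtain ⟨-, h3⟩ := H.coef (H.rng_comm hXY hw) hwM h2
  -- `Y = ζ⁻¹` on the range
  have h4 : ∀ z ∈ LinearMap.range (lin X - 1), act Q Y z = ζ⁻¹ • z := by
    have hmem : ∀ z, z ∈ LinearMap.ker (lin Y - ζ⁻¹ • (1 : Module.End F (ι → F))) ↔ act Q Y z = ζ⁻¹ • z := by
      intro z
      rw [LinearMap.mem_ker, LinearMap.sub_apply, LinearMap.smul_apply, Module.End.one_apply, sub_eq_zero, lin_apply]
    rcases H.irr (LinearMap.ker (lin Y - ζ⁻¹ • (1 : Module.End F (ι → F))) ⊓ LinearMap.range (lin X - 1)) inf_le_right (by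
      rintro z ⟨hz1, hz2⟩
      refine ⟨?_, H.rng_comm (Commute.refl X) hz2⟩
      rw [SetLike.mem_coe, hmem] at hz1 ⊢
      rw [lin_apply, ← act_comm hXY, hz1, act_smul]) with h5 | h5
    · exfalso
      have : w ∈ LinearMap.ker (lin Y - ζ⁻¹ • (1 : Module.End F (ι → F))) ⊓ LinearMap.range (lin X - 1) := ⟨(hmem w).2 h3, hw⟩
      rw [h5, Submodule.mem_bot] at this
      exact hw0 this
    · intro z hz
      rw [← h5] at hz
      exact (hmem z).1 hz.1
  obtain ⟨n0, hun, hvn, hn0⟩ := exists_nonsing_perp hQ hn H.hu H.hv H.huv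
  have h5 : ζ⁻¹ * ζ⁻¹ = 1 := by
    have h6 := map_act Y n0
    rw [h4 n0 (H.rng n0 hun hvn), QuadraticMap.map_smul, smul_eq_mul] at h6
    exact mul_right_cancel₀ hn0 (by rw [h6, one_mul])
  have h6 : ζ * ζ = 1 := by
    rw [← mul_inv_rev] at h5
    exact inv_eq_one.1 h5
  have h7 : ζ⁻¹ = ζ := inv_eq_of_mul_eq_one_right h6
  refine ⟨mul_self_eq_one_iff.1 h6, fun z => ?_⟩
  obtain ⟨s, t, m, hm, rfl⟩ := H.dec z
  rw [act_add, act_add, act_smul, act_smul, hYu, hYv, h4 m hm, h7]
  module

end

end Cfsg.Agent.H559.CV
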