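import Mathlib
import Cfsg.Agent.H559.CV.Lift
import Cfsg.Agent.H357.CV.Tool
import Cfsg.Agent.S0297

/-!
# S3442, row X12: `PΩ⁻_{2m}(q)`, `q` odd, `m ≥ 4`, all primes different from the characteristic (helper559)
-/

set_option autoImplicit false
set_option linter.unusedSectionVars false

namespace Cfsg.Agent.H559.CV

open Module Cfsg QuadraticMap
open Cfsg.Agent.LieClassical.OrthCount Cfsg.Agent.LieClassical.OmegaReindex
open Cfsg.Agent.LieClassical.OrthCenter
open Cfsg.Agent.H377 Cfsg.Agent.H150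
open Cfsg.Agent.H977.SepBC (sieg mem_sieg isPGroup_sieg siegelIso_zero siegel_mem)

section lift
variable {F : Type*} [Field F] {ι : Type} [Fintype ι] [DecidableEq ι] {Q : QuadraticForm F (ι → F)}

theorem mem_center_iff (hQ : (polarBilin Q).Nondegenerate) (hn : 3 ≤ Fintype.card ι) (hs : ∃ u : ι → F, u ≠ 0 ∧ Q u = 0)
    (z : Omega F (⇑Q)) : z ∈ Subgroup.center (Omega F (⇑Q)) ↔
      (∀ x, act Q (z : isometryGroup F (⇑Q)) x = x) ∨ ∀ x, act Q (z : isometryGroup F (⇑Q)) x = -x := by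
  rw [mem_center_omega_iff hQ hn hs]
  constructor
  · rintro (h | h)
    · left
      intro x
      rw [act_def, h, Matrix.one_mulVec]
    · right
      intro x
      rw [act_def, h, Matrix.neg_mulVec, Matrix.one_mulVec]
  · rintro (h | h)
    · left
      apply Matrix.mulVec_injective
      funext x
      rw [Matrix.one_mulVec]
      exact h x
    · right
      apply Matrix.mulVec_injective
      funext x
      rw [Matrix.neg_mulVec, Matrix.one_mulVec]
      exact h x

theorem sq_of_center (hQ : (polarBilin Q).Nondegenerate) (hn : 3 ≤ Fintype.card ι) (hs : ∃ u : ι → F, u ≠ 0 ∧ Q u = 0)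
    {z : Omega F (⇑Q)} (hz : z ∈ Subgroup.center (Omega F (⇑Q))) : (z : isometryGroup F (⇑Q)) ^ 2 = 1 := by
  apply act_ext
  intro x
  rw [_root_.sq, act_mul, act_one]
  rcases (mem_center_iff hQ hn hs z).1 hz with h | h
  · rw [h, h]
  · rw [h, h, neg_neg]

/-- lifting an element of prime order `R` (odd) which is a power -/
theorem exists_lift (hQ : (polarBilin Q).Nondegenerate) (hn : 3 ≤ Fintype.card ι) (hs : ∃ u : ι → F, u ≠ 0 ∧ Q u = 0)
    {R m : ℕ} (hR : R.Prime) (hR2 : R ≠ 2) (Y : Omega F (⇑Q)) (hm : orderOf (QuotientGroup.mk Y : POmega F (⇑Q)) = R * m)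
    (hm0 : m ≠ 0) :
    ((Y : isometryGroup F (⇑Q)) ^ (m * (R + 1))) ^ R = 1 ∧ (Y : isometryGroup F (⇑Q)) ^ (m * (R + 1)) ≠ 1 := by
  have hodd : Even (R + 1) := by
    rcases hR.eq_two_or_odd' with h | h
    · exact absurd h hR2
    · exact h.add_one
  constructor
  · obtain ⟨k, hk⟩ := hodd
    have h1 : Y ^ (R * m) ∈ Subgroup.center (Omega F (⇑Q)) := by
      rw [← QuotientGroup.eq_one_iff, QuotientGroup.mk_pow, ← hm, pow_orderOf_eq_one]
    have h2 := sq_of_center hQ hn hs h1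
    have h3 : m * (R + 1) * R = (R * m * 2) * k := by
      rw [hk]; ring
    rw [← pow_mul, h3, pow_mul, pow_mul]
    have h4 : (Y : isometryGroup F (⇑Q)) ^ (R * m) = ((Y ^ (R * m) : Omega F (⇑Q)) : isometryGroup F (⇑Q)) := rfl
    rw [h4, h2, one_pow]
  · intro h
    have h1 : (QuotientGroup.mk Y : POmega F (⇑Q)) ^ (m * (R + 1)) = 1 := by
      have h2 : Y ^ (m * (R + 1)) = 1 := Subtype.ext h
      rw [← QuotientGroup.mk_pow, h2, QuotientGroup.mk_one]
    have h2 := orderOf_dvd_of_pow_eq_one h1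
    rw [hm, mul_comm R m] at h2
    have h3 := Nat.dvd_of_mul_dvd_mul_left (Nat.pos_of_ne_zero hm0) h2
    have h4 := (Nat.dvd_add_right (dvd_refl R)).1 h3
    exact hR.one_lt.ne' (Nat.dvd_one.1 h4)

/-- two commuting lifts -/
theorem exists_two (hQ : (polarBilin Q).Nondegenerate) (hn : 3 ≤ Fintype.card ι) (hs : ∃ u : ι → F, u ≠ 0 ∧ Q u = 0)
    {R r : ℕ} (hR : R.Prime) (hR2 : R ≠ 2) (hr : r.Prime) (hr2 : r ≠ 2) (y : POmega F (⇑Q)) (hy : orderOf y = r * R) :
    ∃ X Z : isometryGroup F (⇑Q), Commute X Z ∧ X ^ R = 1 ∧ X ≠ 1 ∧ Z ^ r = 1 ∧ Z ≠ 1 ∧ Z ∈ Omega F (⇑Q) := by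
  obtain ⟨Y, rfl⟩ := QuotientGroup.mk_surjective y
  have h1 := exists_lift hQ hn hs hR hR2 Y (by rw [hy, mul_comm]) hr.ne_zero
  have h2 := exists_lift hQ hn hs hr hr2 Y hy hR.ne_zero
  exact ⟨_, _, (Commute.refl _).pow_pow _ _, h1.1, h1.2, h2.1, h2.2, Subgroup.pow_mem _ Y.2 _⟩

end lift

section orders
variable {F : Type*} [Field F] [Finite F] {ι : Type} [Fintype ι] [DecidableEq ι] {Q : QuadraticForm F (ι → F)}
  (hQ : (polarBilin Q).Nondegenerate) {n : ℕ} (hn : 4 ≤ n) (hcard : Fintype.card ι = 2 * n)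
  (hs : ∃ u : ι → F, u ≠ 0 ∧ Q u = 0)
include hQ hn hcard hs

/-- `r * R'`, `R'` primitive for `q ^ (2 * n) - 1` -/
theorem full_ne {R : ℕ} (hR : R.Prime) (hR2 : R ≠ 2) (hRF : (R : F) ≠ 0)
    (hk : orderOf ((Nat.card F : ℕ) : ZMod R) = 2 * n) (hm : R ∣ Nat.card F ^ n + 1)
    {r : ℕ} (hr : r.Prime) (hr2 : r ≠ 2) (hrm : ¬ r ∣ Nat.card F ^ n + 1) (y : POmega F (⇑Q)) : orderOf y ≠ r * R := by
  intro hy
  obtain ⟨X, Z, hXZ, hX, hX1, hZ, hZ1, -⟩ := exists_two hQ (by omega) hs hR hR2 hr hr2 y hy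
  have hfr : finrank F (ι → F) = 2 * n := by rw [finrank_fintype_fun_eq_card, hcard]
  obtain ⟨x, hx'⟩ : ∃ x, x = lin X := ⟨_, rfl⟩
  have hx : x ^ R = 1 := by rw [hx', ← lin_pow, hX, lin_one]
  have hx1 : x ≠ 1 := by
    intro h
    rw [hx', ← lin_one (Q := Q)] at h
    exact hX1 (lin_inj h)
  have hxM := (range_inv (x := x) (y := x) (fun v => rfl)).1
  have hkd := dvd_finrank_of_fpf_submodule hR x hx _ hxM (fpf_range hRF x hx)
  rw [hk] at hkd
  have hM := finrank_range_le_of_dvd hx1 hkd hfr (by omega)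
  have htop : LinearMap.range (x - 1) = ⊤ := Submodule.eq_top_of_finrank_eq (by rw [hM, hfr])
  have hf : ∀ v, x v = v → v = 0 := fun v hv => fpf_range hRF x hx v (by rw [htop]; trivial) hv
  have : Nontrivial (ι → F) := Module.nontrivial_of_finrank_pos (R := F) (by omega)
  have hxz : Commute x (lin Z) := by
    rw [hx']
    show lin X * lin Z = lin Z * lin X
    rw [← lin_mul, hXZ.eq, lin_mul]
  have h1 := irr_pow (polarBilin Q) (fun u hu => hQ.1 u fun v => by
      rw [polarBilin_apply_apply, polar_comm]; exact hu v) hR.pos x (lin Z) hxz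
    (irr_of_dvd hR x hx hf (by rw [hfr, hk])) hx (by rw [hx']; exact fun v w => polar_act X v w)
    (fun v w => polar_act Z v w) hm
  have h2 : Z ^ (Nat.card F ^ n + 1) = 1 := lin_inj (by rw [lin_pow, h1, lin_one])
  have : Fact r.Prime := ⟨hr⟩
  have h3 : orderOf Z = r := orderOf_eq_prime hZ hZ1
  exact hrm (h3 ▸ orderOf_dvd_of_pow_eq_one h2)

/-- `r * R`, `R` primitive for `q ^ (2 * (n - 1)) - 1` -/
theorem partial_ne (hsign : HasSign (⇑Q) n (-1)) {R : ℕ} (hR : R.Prime) (hR2 : R ≠ 2) (hRF : (R : F) ≠ 0)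
    (hk : orderOf ((Nat.card F : ℕ) : ZMod R) = 2 * (n - 1)) (hm : R ∣ Nat.card F ^ (n - 1) + 1)
    {r : ℕ} (hr : r.Prime) (hr2 : r ≠ 2) (hrm : ¬ r ∣ (Nat.card F ^ (n - 1) + 1) * (Nat.card F - 1))
    (y : POmega F (⇑Q)) : orderOf y ≠ r * R := by
  intro hy
  have := Fintype.ofFinite F
  obtain ⟨X, Z, hXZ, hX, hX1, hZ, hZ1, hZO⟩ := exists_two hQ (by omega) hs hR hR2 hr hr2 y hy
  have hfr : finrank F (ι → F) = 2 * n := by rw [finrank_fintype_fun_eq_card, hcard]
  obtain ⟨u, v, H⟩ := exists_frame hQ (by omega) hfr hsign hR hR2 hRF hk hm X hX hX1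
  obtain ⟨ζ, hζ, hZu, hZv⟩ := H.eigen hQ (by omega) (by rw [hcard]; exact even_two_mul n) hXZ hZO
  have hx : lin X ^ R = 1 := by rw [← lin_pow, hX, lin_one]
  have hxM := (range_inv (x := lin X) (y := lin X) (fun v => rfl)).1
  have hzM := (range_inv (x := lin X) (y := lin Z) (fun v => act_comm hXZ v)).1
  have hdim := H.dim
  have hM : finrank F (LinearMap.range (lin X - 1)) = 2 * (n - 1) := by omega
  have : Nontrivial (LinearMap.range (lin X - 1)) := Module.nontrivial_of_finrank_pos (R := F) (by omega)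
  have hB : ∀ v w, polarBilin Q (lin X v) (lin X w) = polarBilin Q v w := fun v w => polar_act X v w
  have hMnd := nondeg_range hRF (polarBilin Q) (fun u hu => hQ.1 u hu) (lin X) hx hB
  have hf' : ∀ v : LinearMap.range (lin X - 1), (lin X).restrict hxM v = v → v = 0 := fun v hv =>
    Subtype.ext (fpf_range hRF (lin X) hx v v.2 (congrArg Subtype.val hv))
  have hcomm : Commute ((lin X).restrict hxM) ((lin Z).restrict hzM) :=
    LinearMap.ext fun v => Subtype.ext (act_comm hXZ v)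
  have h1 := irr_pow (LinearMap.BilinForm.restrict (polarBilin Q) (LinearMap.range (lin X - 1)))
    (fun u hu => hMnd u fun v => by
      have := hu v
      change polar Q (v : ι → F) (u : ι → F) = 0 at this
      show polar Q (u : ι → F) (v : ι → F) = 0
      rw [polar_comm, this]) hR.pos _ _ hcomm
    (irr_of_dvd hR _ (restrict_pow_eq_one hxM hx) hf' (by rw [hM, hk])) (restrict_pow_eq_one hxM hx)
    (fun v w => hB v w) (fun v w => polar_act Z v w) hm
  have h2 : ∀ k : ℕ, ∀ m ∈ LinearMap.range (lin X - 1), act Q (Z ^ (k * (Nat.card F ^ (n - 1) + 1))) m = m := by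
    intro k m hmm
    have h3 := congrArg Subtype.val (LinearMap.congr_fun (congrArg (fun f => f ^ k) h1) ⟨m, hmm⟩)
    rw [← pow_mul, one_pow] at h3
    rw [Module.End.pow_restrict _ hzM (Module.End.pow_apply_mem_of_forall_mem _ hzM)] at h3
    rw [← lin_apply, lin_pow, mul_comm]
    exact h3
  have h3 : ∀ k : ℕ, act Q (Z ^ k) u = ζ ^ k • u ∧ act Q (Z ^ k) v = ζ⁻¹ ^ k • v := by
    intro k
    induction k with
    | zero =>
      refine ⟨?_, ?_⟩
      · rw [pow_zero, pow_zero, act_one, one_smul]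
      · rw [pow_zero, pow_zero, act_one, one_smul]
    | succ k ih =>
      refine ⟨?_, ?_⟩
      · rw [pow_succ, act_mul, hZu, act_smul, ih.1, smul_smul, pow_succ, mul_comm ζ]
      · rw [pow_succ, act_mul, hZv, act_smul, ih.2, smul_smul, pow_succ, mul_comm ζ⁻¹]
  have hζ1 : ∀ a : F, a ≠ 0 → a ^ ((Nat.card F - 1) * (Nat.card F ^ (n - 1) + 1)) = 1 := by
    intro a ha
    rw [pow_mul, Nat.card_eq_fintype_card, FiniteField.pow_card_sub_one_eq_one a ha, one_pow]
  have h4 : Z ^ ((Nat.card F - 1) * (Nat.card F ^ (n - 1) + 1)) = 1 := by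
    apply act_ext
    intro z
    obtain ⟨s, t, m, hmm, rfl⟩ := H.dec z
    rw [act_one, act_add, act_add, act_smul, act_smul, (h3 _).1, (h3 _).2, h2 _ m hmm, hζ1 ζ hζ,
      hζ1 ζ⁻¹ (inv_ne_zero hζ), one_smul, one_smul]
  have : Fact r.Prime := ⟨hr⟩
  have h5 : orderOf Z = r := orderOf_eq_prime hZ hZ1
  apply hrm
  rw [mul_comm]
  exact h5 ▸ orderOf_dvd_of_pow_eq_one h4

end orders

section frob
variable {F : Type} [Field F] [Finite F] {ι : Type} [Fintype ι] [DecidableEq ι] {Q : QuadraticForm F (ι → F)}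
  (h2 : (2 : F) ≠ 0) (hQ : (polarBilin Q).Nondegenerate)

theorem siegelIso_smul_left {u w : ι → F} (hu : Q u = 0) {c : F} (hc : Q (c • u) = 0) (h : polar Q (c • u) w = 0)
    (h' : polar Q u (c • w) = 0) : siegelIso Q (c • u) w hc h = siegelIso Q u (c • w) hu h' := by
  apply act_ext
  intro x
  rw [act_siegelIso, act_siegelIso, polar_smul_left, polar_smul_left, QuadraticMap.map_smul]
  simp only [smul_eq_mul]
  module

/-- the Siegel group may be parametrised by the range of `x - 1` -/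
theorem Frame.exists_rng {X : isometryGroup F (⇑Q)} {u v : ι → F} (H : Frame Q (lin X) u v) {g : isometryGroup F (⇑Q)}
    (hg : ∃ w, ∃ h : polar Q u w = 0, g = siegelIso Q u w H.hu h) :
    ∃ w, ∃ hw : w ∈ LinearMap.range (lin X - 1), g = siegelIso Q u w H.hu (H.perp_of_mem hw).1 := by
  obtain ⟨w, h, rfl⟩ := hg
  have hwr : w - polar Q v w • u ∈ LinearMap.range (lin X - 1) := by
    apply H.rng
    · rw [polar_sub_right, polar_smul_right, h, H.huu]; simp
    · rw [polar_sub_right, polar_smul_right, H.hvu]; simp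
  refine ⟨_, hwr, ?_⟩
  apply act_ext
  intro x
  rw [act_siegelIso, act_siegelIso, polar_sub_left, polar_smul_left]
  have h1 : Q (w - polar Q v w • u) = Q w := by
    rw [sub_eq_add_neg, ClassicalGeometry.Reflection.map_add', QuadraticMap.map_neg, QuadraticMap.map_smul, H.hu,
      polar_neg_right, polar_smul_right, polar_comm Q w u, h]
    simp
  rw [h1]
  simp only [smul_eq_mul]
  module

include h2 hQ in
/-- **the Frobenius part** -/
theorem exists_frob {n : ℕ} (hn : 4 ≤ n) (hcard : Fintype.card ι = 2 * n)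
    (hs : ∃ u : ι → F, u ≠ 0 ∧ Q u = 0) (hsign : HasSign (⇑Q) n (-1)) {R : ℕ} (hR : R.Prime) (hR2 : R ≠ 2)
    (hRF : (R : F) ≠ 0) (hk : orderOf ((Nat.card F : ℕ) : ZMod R) = 2 * (n - 1)) (hm : R ∣ Nat.card F ^ (n - 1) + 1)
    (hdvd : R ∣ Nat.card (POmega F (⇑Q))) {r : ℕ} (hr : r.Prime) (hrF : ¬ r ∣ Nat.card F) :
    ∃ (U : Subgroup (POmega F (⇑Q))) (c : POmega F (⇑Q)), U ≠ ⊥ ∧ ¬ r ∣ Nat.card U ∧ (∀ a ∈ U, c * a * c⁻¹ ∈ U) ∧
      (∀ i, c ^ i ≠ 1 → ∀ a ∈ U, c ^ i * a = a * c ^ i → a = 1) ∧ ∀ y : POmega F (⇑Q), orderOf y ≠ r * orderOf c := by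
  classical
  have hcen := mem_center_iff hQ (by omega) hs
  -- the element `c`
  have hne : {x : POmega F (⇑Q) | R ∣ orderOf x}.Nonempty := by
    have : Fact R.Prime := ⟨hR⟩
    obtain ⟨x, hx⟩ := exists_prime_orderOf_dvd_card' R hdvd
    exact ⟨x, by rw [Set.mem_ofPred_eq, hx]⟩
  obtain ⟨c, hc, hmax⟩ := Set.exists_max_image _ (orderOf : POmega F (⇑Q) → ℕ) (Set.toFinite _) hne
  obtain ⟨Y, rfl⟩ := QuotientGroup.mk_surjective c
  obtain ⟨m, hm'⟩ : R ∣ orderOf (QuotientGroup.mk Y : POmega F (⇑Q)) := hc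
  have hpos := orderOf_pos (QuotientGroup.mk Y : POmega F (⇑Q))
  have hm0 : m ≠ 0 := by
    rintro rfl
    rw [mul_zero] at hm'
    omega
  obtain ⟨hX, hX1⟩ := exists_lift hQ (by omega) hs hR hR2 Y hm' hm0
  have hXY : Commute ((Y : isometryGroup F (⇑Q)) ^ (m * (R + 1))) (Y : isometryGroup F (⇑Q)) :=
    (Commute.refl _).pow_left _
  have hfr : finrank F (ι → F) = 2 * n := by rw [finrank_fintype_fun_eq_card, hcard]
  obtain ⟨u, v, H⟩ := exists_frame hQ (by omega) hfr hsign hR hR2 hRF hk hm _ hX hX1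
  obtain ⟨ζ, hζ, hYu, hYv⟩ := H.eigen hQ (by omega) (by rw [hcard]; exact even_two_mul n) hXY Y.2
  have hpow : ∀ i : ℕ, act Q ((Y : isometryGroup F (⇑Q)) ^ i) u = ζ ^ i • u ∧
      act Q ((Y : isometryGroup F (⇑Q)) ^ i) v = (ζ ^ i)⁻¹ • v := by
    intro i
    induction i with
    | zero =>
      refine ⟨?_, ?_⟩
      · rw [pow_zero, pow_zero, act_one, one_smul]
      · rw [pow_zero, pow_zero, act_one, inv_one, one_smul]
    | succ k ih =>
      refine ⟨?_, ?_⟩
      · rw [pow_succ, act_mul, hYu, act_smul, ih.1, smul_smul, pow_succ, mul_comm ζ]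
      · rw [pow_succ, act_mul, hYv, act_smul, ih.2, smul_smul, pow_succ, mul_inv, mul_comm ζ⁻¹]
  -- the characteristic
  obtain ⟨p, hp⟩ := CharP.exists F
  have hpp : p.Prime := CharP.char_is_prime F p
  have : Fact p.Prime := ⟨hpp⟩
  refine ⟨(sieg Q H.hu).map (QuotientGroup.mk' _), QuotientGroup.mk Y, ?_, ?_, ?_, ?_, ?_⟩
  · -- not trivial
    obtain ⟨n0, hun, hvn, hn0⟩ := exists_nonsing_perp hQ (by omega) H.hu H.hv H.huv
    have hS := siegel_mem h2 hQ H.hu H.u_ne hn0 hun hun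
    intro h
    have h1 : (QuotientGroup.mk' (Subgroup.center (Omega F (⇑Q))) ⟨siegelIso Q u n0 H.hu hun, hS⟩ :
        POmega F (⇑Q)) ∈ (sieg Q H.hu).map (QuotientGroup.mk' _) := Subgroup.mem_map_of_mem _ ⟨n0, hun, rfl⟩
    rw [h, Subgroup.mem_bot] at h1
    have h3 := (hcen _).1 ((QuotientGroup.eq_one_iff _).1 h1)
    have h4 : act Q (siegelIso Q u n0 H.hu hun) v = v + n0 - Q n0 • u := by
      rw [act_siegelIso, H.huv, polar_comm Q n0 v, hvn]; simp
    rcases h3 with h3 | h3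
    · have h5 := h3 v
      change act Q (siegelIso Q u n0 H.hu hun) v = v at h5
      rw [h4] at h5
      have h6 := congrArg (polar Q v) h5
      rw [polar_sub_right, polar_add_right, polar_smul_right, H.hvv, hvn, H.hvu] at h6
      apply hn0
      simpa using h6
    · have h5 := h3 v
      change act Q (siegelIso Q u n0 H.hu hun) v = -v at h5
      rw [h4] at h5
      have h6 := congrArg (polar Q u) h5
      rw [polar_sub_right, polar_add_right, polar_smul_right, H.huv, hun, H.huu, polar_neg_right, H.huv] at h6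
      apply h2
      simp only [smul_zero, add_zero, sub_zero] at h6
      linear_combination h6
  · -- the order
    have h1 : IsPGroup p ((sieg Q H.hu).map (QuotientGroup.mk' (Subgroup.center (Omega F (⇑Q))))) :=
      (isPGroup_sieg H.hu).map _
    obtain ⟨k, hk'⟩ := h1.exists_card_eq
    rw [hk']
    intro h
    apply hrF
    have h3 : r = p := (Nat.prime_dvd_prime_iff_eq hr hpp).1 (hr.dvd_of_dvd_pow h)
    have := Fintype.ofFinite F
    obtain ⟨f, -, hf⟩ := FiniteField.card F p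
    rw [h3, Nat.card_eq_fintype_card, hf]
    exact dvd_pow_self p f.pos.ne'
  · -- normalised
    rintro _ ⟨g, ⟨w, h, hg⟩, rfl⟩
    have e1 : Q (act Q (Y : isometryGroup F (⇑Q)) u) = 0 := by rw [map_act, H.hu]
    have e2 : polar Q (act Q (Y : isometryGroup F (⇑Q)) u) (act Q (Y : isometryGroup F (⇑Q)) w) = 0 := by
      rw [polar_act, h]
    refine ⟨Y * g * Y⁻¹, ?_, rfl⟩
    have e3 : polar Q u (ζ • act Q (Y : isometryGroup F (⇑Q)) w) = 0 := by
      rw [hYu, polar_smul_left] at e2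
      rw [polar_smul_right]
      exact e2
    refine ⟨ζ • act Q (Y : isometryGroup F (⇑Q)) w, e3, ?_⟩
    rw [Subgroup.coe_mul, Subgroup.coe_mul, Subgroup.coe_inv, hg, conj_siegelIso H.hu h _ e1 e2]
    have e4 : Q (ζ • u) = 0 := by rw [QuadraticMap.map_smul, H.hu, smul_zero]
    have e5 : polar Q (ζ • u) (act Q (Y : isometryGroup F (⇑Q)) w) = 0 := by rw [← hYu]; exact e2
    rw [← siegelIso_smul_left H.hu e4 e5 e3]
    congr 1
  · -- fixed point free
    rintro i hi _ ⟨g, hg, rfl⟩ hcomm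
    obtain ⟨w, hw, hgw⟩ := H.exists_rng hg
    by_cases hw0 : w = 0
    · subst hw0
      have : g = 1 := Subtype.ext (by
        rw [hgw, siegelIso_zero]; rfl)
      rw [this, map_one]
    exfalso
    apply hi
    -- the commutator is central and a Siegel transformation
    have hz : g * Y ^ i * g⁻¹ * (Y ^ i)⁻¹ ∈ Subgroup.center (Omega F (⇑Q)) := by
      rw [← QuotientGroup.eq_one_iff]
      have h1 : (QuotientGroup.mk Y : POmega F (⇑Q)) ^ i * (QuotientGroup.mk g) = (QuotientGroup.mk g) * (QuotientGroup.mk Y) ^ i := hcomm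
      rw [QuotientGroup.mk_mul, QuotientGroup.mk_mul, QuotientGroup.mk_mul, QuotientGroup.mk_inv, QuotientGroup.mk_inv,
        QuotientGroup.mk_pow, ← h1]
      group
    have hz1 : g * Y ^ i * g⁻¹ * (Y ^ i)⁻¹ = 1 := by
      apply Subtype.ext
      apply act_ext
      rcases (hcen _).1 hz with h | h
      · intro x
        rw [h]
        exact (act_one x).symm
      · exfalso
        have h3 := h u
        have hgu : act Q (g : isometryGroup F (⇑Q)) u = u := by
          rw [hgw, act_siegelIso, H.huu, polar_comm Q w u, (H.perp_of_mem hw).1]; simp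
        have hgu' : act Q (g : isometryGroup F (⇑Q))⁻¹ u = u := by
          nth_rewrite 1 [← hgu]
          rw [act_inv_act]
        have hYi : act Q ((Y : isometryGroup F (⇑Q)) ^ i)⁻¹ u = (ζ ^ i)⁻¹ • u := by
          have h4 : act Q ((Y : isometryGroup F (⇑Q)) ^ i)⁻¹ (act Q ((Y : isometryGroup F (⇑Q)) ^ i) u) = u :=
            act_inv_act _ _
          rw [(hpow i).1, act_smul] at h4
          have h5 : ζ ^ i ≠ 0 := pow_ne_zero i hζ
          calc act Q ((Y : isometryGroup F (⇑Q)) ^ i)⁻¹ u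
              = ((ζ ^ i)⁻¹ * ζ ^ i) • act Q ((Y : isometryGroup F (⇑Q)) ^ i)⁻¹ u := by
                rw [inv_mul_cancel₀ h5, one_smul]
            _ = (ζ ^ i)⁻¹ • u := by rw [← smul_smul, h4]
        have h5 : act Q ((g * Y ^ i * g⁻¹ * (Y ^ i)⁻¹ : Omega F (⇑Q)) : isometryGroup F (⇑Q)) u = u := by
          rw [Subgroup.coe_mul, Subgroup.coe_mul, Subgroup.coe_mul, Subgroup.coe_inv, Subgroup.coe_inv, Subgroup.coe_pow,
            act_mul, act_mul, act_mul, hYi, act_smul, act_smul, act_smul, hgu', (hpow i).1, act_smul, hgu, smul_smul,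
            inv_mul_cancel₀ (pow_ne_zero i hζ), one_smul]
        rw [h5] at h3
        have h6 := congrArg (polar Q v) h3
        rw [polar_neg_right, H.hvu] at h6
        apply h2
        linear_combination h6
    have hz2 : (Y : isometryGroup F (⇑Q)) ^ i * siegelIso Q u w H.hu (H.perp_of_mem hw).1 =
        siegelIso Q u w H.hu (H.perp_of_mem hw).1 * (Y : isometryGroup F (⇑Q)) ^ i := by
      rw [← hgw]
      have h1 : Y ^ i * g = g * Y ^ i := by
        have h3 : g * Y ^ i = (g * Y ^ i * g⁻¹ * (Y ^ i)⁻¹) * (Y ^ i * g) := by group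
        rw [h3, hz1, one_mul]
      have h3 := congrArg Subtype.val h1
      rw [Subgroup.coe_mul, Subgroup.coe_mul, Subgroup.coe_pow] at h3
      exact h3
    obtain ⟨h7, h8⟩ := H.scalar hQ (by omega) (hXY.pow_right i) (hpow i).1 (hpow i).2 hw hw0 hz2
    rw [← QuotientGroup.mk_pow, QuotientGroup.eq_one_iff, hcen]
    rw [Subgroup.coe_pow]
    rcases h7 with h7 | h7
    · left
      intro x
      rw [h8, h7, one_smul]
    · right
      intro x
      rw [h8, h7, neg_smul, one_smul]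
  · intro y hy
    have h1 := hmax y (by
      show R ∣ orderOf y
      rw [hy, hm']
      exact ⟨r * m, by ring⟩)
    rw [hy] at h1
    have h3 := hr.two_le
    nlinarith
end frob

universe u

/-- **Row X12.** -/
theorem x12 (F : Type) [Field F] [Fintype F] (m : ℕ) (a b : F) (ho : Odd (Fintype.card F)) (hm : 4 ≤ m)
    (hab : ∀ z₁ z₂ : F, z₁ ^ 2 + a * z₁ * z₂ + b * z₂ ^ 2 = 0 → z₁ = 0 ∧ z₂ = 0)
    (r : ℕ) (hr : r.Prime) (hrF : ¬ r ∣ Fintype.card F) :
    Cfsg.Agent.H373.CV.Hit.{u, 0} r (POmega F (quadFormMinus (m - 1) F a b)) := by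
  classical
  have hqe : Nat.card F = Fintype.card F := Nat.card_eq_fintype_card
  have h2 : (2 : F) ≠ 0 := by
    intro h
    have h3 : ringChar F = 2 := by
      have h4 : ringChar F ∣ 2 := (ringChar.spec F 2).1 (by exact_mod_cast h)
      rcases (Nat.dvd_prime Nat.prime_two).1 h4 with h5 | h5
      · exact absurd h5 CharP.ringChar_ne_one
      · exact h5
    have h4 := FiniteField.even_card_of_char_two h3
    rw [← Nat.not_even_iff_odd] at ho
    exact ho (Nat.even_iff.2 h4)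
  have hq3 : 3 ≤ Fintype.card F := by
    have := Fintype.one_lt_card (α := F)
    obtain ⟨t, ht⟩ := ho
    omega
  have hsimple := Cfsg.Agent.S0297.result (F := F) m hm a b hab
  have hfar := minus_far_odd h2 hm hab
  have hord := Cfsg.Agent.S0294.result (F := F) rfl m hm a b hab
  have hcard : Fintype.card ((Fin (m - 1) ⊕ Fin (m - 1)) ⊕ Fin 2) = 2 * m := by simp; omega
  have hsign : HasSign (⇑(quadMinus (m - 1) F a b)) m (-1) := by
    rw [coe_quadMinus]
    have := hasSign_quadFormMinus (m - 1) (a := a) (b := b) hab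
    rwa [Nat.sub_add_cancel (by omega)] at this
  have hnd := quadMinus_nondegenerate (m := m - 1) (F := F) hab
  have hs := quadMinus_sing (F := F) (n := m - 1) (by omega) a b
  rw [← coe_quadMinus] at hsimple hfar hord ⊢
  -- the primitive primes
  obtain ⟨R, hR, hR2, hRF, hk, hRm⟩ := exists_primitive_prime (F := F) (k := 2 * (m - 1)) (by omega) (by omega)
  obtain ⟨R', hR', hR2', hRF', hk', hRm'⟩ := exists_primitive_prime (F := F) (k := 2 * m) (by omega) (by omega)
  have hd : R ∣ Fintype.card F ^ (m - 1) + 1 := dvd_pow_add_one_of_primitive hR (by omega) hRm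
  have hd' : R' ∣ Fintype.card F ^ m + 1 := dvd_pow_add_one_of_primitive hR' (by omega) hRm'
  have hRL : R ∣ Nat.card (POmega F (⇑(quadMinus (m - 1) F a b))) :=
    dvd_of_gcd_mul hR hR2 hord (dvd_mul_of_dvd_right (dvd_prod_factor hRm (i := m - 1) (by omega) le_rfl dvd_rfl) _)
  have hRL' : R' ∣ Nat.card (POmega F (⇑(quadMinus (m - 1) F a b))) :=
    dvd_of_gcd_mul hR' hR2' hord (dvd_mul_of_dvd_left (dvd_mul_of_dvd_right hd' _) _)
  obtain ⟨U, c, hU, hcop, hn, hfix, hmax⟩ := exists_frob h2 hnd hm hcard hs hsign hR hR2 hRF hk (by rw [hqe]; exact hd)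
    hRL hr (by rw [hqe]; exact hrF)
  refine Cfsg.Agent.H357.CV.hit_of_frob hr ?_ U hU hcop c hn hfix hmax
  -- elements of prime order
  have hel : ∀ s : ℕ, s.Prime → s ∣ Nat.card (POmega F (⇑(quadMinus (m - 1) F a b))) → s ≠ r →
      (∀ y : POmega F (⇑(quadMinus (m - 1) F a b)), orderOf y ≠ r * s) →
      ∃ x : POmega F (⇑(quadMinus (m - 1) F a b)), ¬ r ∣ orderOf x ∧ ∀ y : POmega F (⇑(quadMinus (m - 1) F a b)),
        orderOf y ≠ r * orderOf x := by
    intro s hs' hsd hsr hy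
    have : Fact s.Prime := ⟨hs'⟩
    obtain ⟨x, hx⟩ := exists_prime_orderOf_dvd_card' s hsd
    refine ⟨x, ?_, ?_⟩
    · rw [hx]
      exact fun h => hsr ((Nat.prime_dvd_prime_iff_eq hr hs').1 h).symm
    · rw [hx]; exact hy
  by_cases hr2 : r = 2
  · subst hr2
    obtain ⟨s, hs', hs2, hsd, hsy⟩ := hfar
    exact hel s hs' hsd hs2 hsy
  have hfull := fun (h : ¬ r ∣ Nat.card F ^ m + 1) => full_ne hnd hm hcard hs hR' hR2' hRF' hk' (by rw [hqe]; exact hd') hr hr2 h
  have hpart := fun (h : ¬ r ∣ (Nat.card F ^ (m - 1) + 1) * (Nat.card F - 1)) =>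
    partial_ne hnd hm hcard hs hsign hR hR2 hRF hk (by rw [hqe]; exact hd) hr hr2 h
  by_cases hrm : r ∣ Nat.card F ^ m + 1
  · -- use `R`
    have h3 : ¬ r ∣ (Nat.card F ^ (m - 1) + 1) * (Nat.card F - 1) := by
      intro h
      have h4 : (r : ℤ) ∣ ((Nat.card F : ℤ) ^ (m - 1) + 1) * ((Nat.card F : ℤ) - 1) := by
        have h5 := Int.natCast_dvd_natCast.2 h
        rw [Nat.cast_mul, Nat.cast_sub (by omega)] at h5
        push_cast at h5
        exact h5
      have h5 : (r : ℤ) ∣ (Nat.card F : ℤ) ^ m + 1 := by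
        have h6 := Int.natCast_dvd_natCast.2 hrm
        push_cast at h6
        exact h6
      have h6 : (r : ℤ) ∣ (Nat.card F : ℤ) - 1 := by
        rcases (Nat.prime_iff_prime_int.1 hr).dvd_or_dvd h4 with h7 | h7
        · have h8 : (Nat.card F : ℤ) ^ m = (Nat.card F : ℤ) * (Nat.card F : ℤ) ^ (m - 1) := by
            rw [← pow_succ']
            congr 1
            omega
          rw [h8] at h5
          have h9 : (Nat.card F : ℤ) - 1 = (Nat.card F : ℤ) * ((Nat.card F : ℤ) ^ (m - 1) + 1) -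
            ((Nat.card F : ℤ) * (Nat.card F : ℤ) ^ (m - 1) + 1) := by ring
          rw [h9]
          exact dvd_sub (Dvd.dvd.mul_left h7 _) h5
        · exact h7
      have h7 : (r : ℤ) ∣ 2 := by
        have h8 : (Nat.card F : ℤ) - 1 ∣ (Nat.card F : ℤ) ^ m - 1 := by
          have := sub_dvd_pow_sub_pow (Nat.card F : ℤ) 1 m
          rwa [one_pow] at this
        have h9 : (2 : ℤ) = ((Nat.card F : ℤ) ^ m + 1) - ((Nat.card F : ℤ) ^ m - 1) := by ring
        rw [h9]
        exact dvd_sub h5 (h6.trans h8)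
      have h8 : r ∣ 2 := by exact_mod_cast h7
      exact hr2 ((Nat.prime_dvd_prime_iff_eq hr Nat.prime_two).1 h8)
    refine hel R hR hRL ?_ (hpart h3)
    rintro rfl
    exact h3 (Dvd.dvd.mul_right (by rw [hqe]; exact hd) _)
  · refine hel R' hR' hRL' ?_ (hfull hrm)
    rintro rfl
    exact hrm (by rw [hqe]; exact hd')

end Cfsg.Agent.H559.CV
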